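import Mathlib.Tactic
import Mathlib.RingTheory.MvPowerSeries.Substitution
import Mathlib.RingTheory.MvPowerSeries.Inverse
import Mathlib.RingTheory.PowerSeries.Substitution
import Mathlib.RingTheory.AdicCompletion.Completeness
import Mathlib.RingTheory.Henselian

/-! Substitutions `X s ↦ X s * u s` with `u s` units are automorphisms of a power series ring. -/

set_option autoImplicit false

namespace Groth.Agent.H25Kum
open MvPowerSeries

universe u
variable {σ : Type*} [Finite σ] {R : Type u} [CommRing R]

lemma hasSubst_mul (u : σ → MvPowerSeries σ R) : HasSubst fun s => X s * u s :=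
  hasSubst_of_constantCoeff_zero fun s => by simp

omit [Finite σ] in
lemma prod_X_mul [Fintype σ] (u : σ → MvPowerSeries σ R) (i : σ →₀ ℕ) :
    (i.prod fun s n => (X s * u s) ^ n) = monomial i 1 * ∏ s, u s ^ i s := by
  rw [monomial_one_eq, Finsupp.prod_fintype _ _ (fun s => pow_zero _),
    Finsupp.prod_fintype _ _ (fun s => pow_zero _), ← Finset.prod_mul_distrib]
  simp [mul_pow]

lemma coeff_subst_mul [Fintype σ] [DecidableEq σ] (u : σ → MvPowerSeries σ R)
    (g : MvPowerSeries σ R) (e : σ →₀ ℕ) :
    coeff e (subst (fun s => X s * u s) g) =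
      coeff e g * (∏ s, constantCoeff (u s) ^ e s) +
        ∑ i ∈ (Finset.Iic e).erase e, coeff i g * coeff (e - i) (∏ s, u s ^ i s) := by
  classical
  rw [coeff_subst (hasSubst_mul u)]
  rw [finsum_eq_sum_of_support_subset _ (s := Finset.Iic e)]
  · rw [← Finset.add_sum_erase _ _ (Finset.mem_Iic.2 (le_refl e))]
    congr 1
    · rw [prod_X_mul, coeff_monomial_mul, if_pos le_rfl, one_mul, tsub_self,
        coeff_zero_eq_constantCoeff_apply, map_prod, smul_eq_mul]
      simp
    · refine Finset.sum_congr rfl fun i hi => ?_
      rw [prod_X_mul, coeff_monomial_mul, if_pos (Finset.mem_Iic.1 (Finset.mem_of_mem_erase hi)),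
        one_mul, smul_eq_mul]
  · intro i hi
    rw [Finset.mem_coe, Finset.mem_Iic]
    by_contra h
    apply hi
    show coeff i g • coeff e _ = 0
    rw [prod_X_mul, coeff_monomial_mul, if_neg h, smul_zero]

open Classical in
/-- The coefficients of the inverse image. -/
noncomputable def solve [Fintype σ] (u : σ → MvPowerSeries σ R) (f : MvPowerSeries σ R) (n : ℕ) :
    (σ →₀ ℕ) → R :=
  fun e =>
    match n with
    | 0 => Ring.inverse (∏ s, constantCoeff (u s) ^ e s) * coeff e f
    | m + 1 => Ring.inverse (∏ s, constantCoeff (u s) ^ e s) *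
        (coeff e f - ∑ i ∈ (Finset.Iic e).erase e, solve u f m i * coeff (e - i) (∏ s, u s ^ i s))

lemma degree_lt {i e : σ →₀ ℕ} (h : i ≤ e) (hne : i ≠ e) : i.degree < e.degree := by
  obtain ⟨d, rfl⟩ := exists_add_of_le h
  have hd : d ≠ 0 := fun h0 => hne (by simp [h0])
  rw [map_add]
  have := mt (Finsupp.degree_eq_zero_iff d).1 hd
  omega

lemma subst_bijective {u : σ → MvPowerSeries σ R} (hu : ∀ s, IsUnit (constantCoeff (u s))) :
    Function.Bijective (substAlgHom (R := R) (hasSubst_mul u)) := by
  classical
  have : Fintype σ := Fintype.ofFinite σ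
  have hd : ∀ e : σ →₀ ℕ, IsUnit (∏ s, constantCoeff (u s) ^ e s) := fun e =>
    IsUnit.prod_iff.2 fun s _ => (hu s).pow _
  constructor
  · rw [injective_iff_map_eq_zero]
    intro g hg
    ext e
    rw [map_zero]
    induction hn : e.degree using Nat.strong_induction_on generalizing e with
    | _ n ih =>
      have h := congrArg (coeff e) hg
      rw [substAlgHom_apply, coeff_subst_mul, map_zero, Finset.sum_eq_zero, add_zero] at h
      · exact (hd e).mul_left_eq_zero.1 h
      · intro i hi
        obtain ⟨hne, hle⟩ := Finset.mem_erase.1 hi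
        rw [ih i.degree (hn ▸ degree_lt (Finset.mem_Iic.1 hle) hne) i rfl, zero_mul]
  · intro f
    refine ⟨fun e => solve u f e.degree e, ?_⟩
    ext e
    rw [substAlgHom_apply, coeff_subst_mul]
    simp only [show ∀ i, coeff i (fun e => solve u f e.degree e : MvPowerSeries σ R) =
      solve u f i.degree i from fun i => rfl]
    -- stability
    have stab : ∀ n m (i : σ →₀ ℕ), i.degree ≤ n → i.degree ≤ m → solve u f n i = solve u f m i := by
      intro n
      induction n using Nat.strong_induction_on with
      | _ n ih =>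
        intro m i hn hm
        rcases n with _ | n <;> rcases m with _ | m
        · rfl
        · have : i = 0 := (Finsupp.degree_eq_zero_iff i).1 (by omega)
          subst this
          simp only [solve, show (Finset.Iic (0 : σ →₀ ℕ)).erase 0 = ∅ by ext x; simp,
            Finset.sum_empty, sub_zero]
        · have : i = 0 := (Finsupp.degree_eq_zero_iff i).1 (by omega)
          subst this
          simp [solve, show (Finset.Iic (0 : σ →₀ ℕ)).erase 0 = ∅ by ext x; simp]
        · simp only [solve]
          congr 2
          refine Finset.sum_congr rfl fun l hl => ?_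
          obtain ⟨hne, hle⟩ := Finset.mem_erase.1 hl
          have := degree_lt (Finset.mem_Iic.1 hle) hne
          rw [ih n (by omega) m l (by omega) (by omega)]
    have main : solve u f e.degree e = Ring.inverse (∏ s, constantCoeff (u s) ^ e s) *
        (coeff e f - ∑ i ∈ (Finset.Iic e).erase e,
          solve u f i.degree i * coeff (e - i) (∏ s, u s ^ i s)) := by
      rw [stab e.degree (e.degree + 1) e le_rfl (by omega)]
      simp only [solve]
      congr 2
      refine Finset.sum_congr rfl fun l hl => ?_
      obtain ⟨hne, hle⟩ := Finset.mem_erase.1 hl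
      have := degree_lt (Finset.mem_Iic.1 hle) hne
      rw [stab e.degree l.degree l this.le le_rfl]
    rw [main, mul_right_comm, Ring.inverse_mul_cancel _ (hd e), one_mul]
    ring

/-- The automorphism `X s ↦ X s * u s`. -/
noncomputable def scaleAut {u : σ → MvPowerSeries σ R} (hu : ∀ s, IsUnit (constantCoeff (u s))) :
    MvPowerSeries σ R ≃ₐ[R] MvPowerSeries σ R :=
  AlgEquiv.ofBijective (substAlgHom (hasSubst_mul u)) (subst_bijective hu)

lemma scaleAut_X {u : σ → MvPowerSeries σ R} (hu : ∀ s, IsUnit (constantCoeff (u s))) (s : σ) :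
    scaleAut hu (X s) = X s * u s := by
  simp [scaleAut, subst_X (hasSubst_mul u)]

omit [Finite σ] in
lemma algHom_C (φ : MvPowerSeries σ R →ₐ[R] MvPowerSeries σ R) (r : R) : φ (C r) = C r := by
  simpa [MvPowerSeries.algebraMap_apply] using φ.commutes r

open PowerSeries in
lemma exists_cube_root [CharP R 2] (W : PowerSeries R) (h : PowerSeries.constantCoeff W = 1) :
    ∃ v : PowerSeries R, v ^ 3 = W ∧ PowerSeries.constantCoeff v = 1 := by
  obtain ⟨v, hv, hv1⟩ := HenselianRing.is_henselian (R := PowerSeries R)
    (I := Ideal.span {(PowerSeries.X : PowerSeries R)})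
    (Polynomial.X ^ 3 - Polynomial.C W) (Polynomial.monic_X_pow_sub_C W (by norm_num)) 1
    (by
      rw [Ideal.mem_span_singleton, PowerSeries.X_dvd_iff]
      simp [h])
    (by
      have h2 : (2 : PowerSeries R) = 0 := by
        rw [← map_ofNat PowerSeries.C 2, CharTwo.two_eq_zero, map_zero]
      have h3 : (3 : PowerSeries R) = 1 := by linear_combination h2
      simp [h2, h3])
  refine ⟨v, by simpa [sub_eq_zero] using hv, ?_⟩
  rw [Ideal.mem_span_singleton, PowerSeries.X_dvd_iff] at hv1
  simpa [sub_eq_zero] using hv1

end Groth.Agent.H25Kum
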