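import Mathlib.Tactic
import Mathlib.Algebra.MvPolynomial.Expand
import Mathlib.Algebra.MvPolynomial.Derivation
import Mathlib.RingTheory.Ideal.Span
import Mathlib.RingTheory.Ideal.Maps
import Mathlib.Algebra.CharP.Two

/-! `R[x, y]` as a free module over `R[x², y²]`, and kernels of vector fields in characteristic two. -/

set_option autoImplicit false

namespace Groth.Agent.H25Kum
open MvPolynomial

universe u
variable {R : Type u} [CommRing R]

local notation "P2" => MvPolynomial (Fin 2) R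

lemma expand_decomp (p : P2) : ∃ q0 q1 q2 q3 : P2,
    p = expand 2 q0 + expand 2 q1 * X 0 + expand 2 q2 * X 1 + expand 2 q3 * (X 0 * X 1) := by
  induction p using MvPolynomial.induction_on with
  | C a => exact ⟨C a, 0, 0, 0, by simp⟩
  | add p q hp hq =>
    obtain ⟨a0, a1, a2, a3, rfl⟩ := hp
    obtain ⟨b0, b1, b2, b3, rfl⟩ := hq
    exact ⟨a0 + b0, a1 + b1, a2 + b2, a3 + b3, by simp only [map_add]; ring⟩
  | mul_X p i hp =>
    obtain ⟨a0, a1, a2, a3, rfl⟩ := hp
    fin_cases i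
    · exact ⟨a1 * X 0, a0, a3 * X 0, a2, by simp only [map_mul, expand_X]; dsimp; ring⟩
    · exact ⟨a2 * X 1, a3 * X 1, a0, a1, by simp only [map_mul, expand_X]; dsimp; ring⟩

lemma coeff_expand_mul_monomial (q : P2) (ε m : Fin 2 →₀ ℕ) :
    coeff (2 • m + ε) (expand 2 q * monomial ε 1) = coeff m q := by
  rw [coeff_mul_monomial, mul_one]
  exact coeff_expand_smul _ (by norm_num) _ _

lemma coeff_expand_mul_monomial_ne (q : P2) {ε δ : Fin 2 →₀ ℕ} (hε : ∀ i, ε i ≤ 1)
    (hδ : ∀ i, δ i ≤ 1) (h : ε ≠ δ) (m : Fin 2 →₀ ℕ) :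
    coeff (2 • m + δ) (expand 2 q * monomial ε 1) = 0 := by
  classical
  rw [coeff_mul_monomial']
  split_ifs with hle
  · obtain ⟨i, hi⟩ : ∃ i, ε i ≠ δ i := by
      by_contra! h0
      exact h (Finsupp.ext h0)
    refine mul_eq_zero_of_left (coeff_expand_of_not_dvd _ (i := i) (by
      simp only [Finsupp.tsub_apply, Finsupp.add_apply, Finsupp.smul_apply, smul_eq_mul]
      have := hε i; have := hδ i; have := Finsupp.le_def.1 hle i
      simp only [Finsupp.add_apply, Finsupp.smul_apply, smul_eq_mul] at this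
      omega)) _
  · rfl

lemma expand_indep {q0 q1 q2 q3 : P2}
    (h : expand 2 q0 + expand 2 q1 * X 0 + expand 2 q2 * X 1 + expand 2 q3 * (X 0 * X 1) = 0) :
    q0 = 0 ∧ q1 = 0 ∧ q2 = 0 ∧ q3 = 0 := by
  classical
  let ε : Fin 4 → (Fin 2 →₀ ℕ) := ![0, Finsupp.single 0 1, Finsupp.single 1 1,
    Finsupp.single 0 1 + Finsupp.single 1 1]
  let q : Fin 4 → P2 := ![q0, q1, q2, q3]
  have hsum : ∑ j, expand 2 (q j) * monomial (ε j) 1 = 0 := by
    rw [← h, Fin.sum_univ_four]
    simp [q, ε, X, monomial_mul]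
  have hε : ∀ j i, ε j i ≤ 1 := by intro j i; fin_cases j <;> fin_cases i <;> simp [ε]
  have hinj : ∀ j j', ε j = ε j' → j = j' := by
    intro j j' he
    have e0 := DFunLike.congr_fun he 0
    have e1 := DFunLike.congr_fun he 1
    fin_cases j <;> fin_cases j' <;> simp [ε] at e0 e1 ⊢
  have key : ∀ j, q j = 0 := fun j => by
    ext m
    have := congrArg (coeff (2 • m + ε j)) hsum
    rw [coeff_sum, Finset.sum_eq_single j, coeff_expand_mul_monomial, coeff_zero] at this
    · rw [this, coeff_zero]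
    · exact fun j' _ hne => coeff_expand_mul_monomial_ne _ (hε j') (hε j) (fun e => hne (hinj _ _ e)) m
    · simp
  exact ⟨key 0, key 1, key 2, key 3⟩

lemma derivation_expand [CharP R 2] (D : Derivation R P2 P2) (q : P2) : D (expand 2 q) = 0 := by
  induction q using MvPolynomial.induction_on with
  | C a => simp [← algebraMap_eq]
  | add p q hp hq => simp only [map_add, hp, hq, add_zero]
  | mul_X p i hp =>
    rw [map_mul, expand_X, Derivation.leibniz, hp, Derivation.leibniz_pow]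
    have : (2 : P2) = 0 := by
      rw [← map_ofNat C 2, (CharTwo.two_eq_zero : (2 : R) = 0), map_zero]
    simp [this]

/-- `R[a, b] → R[a, b, c]`. -/
noncomputable def inc : P2 →ₐ[R] MvPolynomial (Fin 3) R := aeval ![X 0, X 1]

lemma aeval_inc (g q : P2) : aeval ![X 0 ^ 2, X 1 ^ 2, g] (inc q) = expand 2 q := by
  induction q using MvPolynomial.induction_on with
  | C a => simp [inc]
  | add p q hp hq => simp only [map_add, hp, hq]
  | mul_X p i hp => rw [map_mul, map_mul, hp, map_mul, expand_X]; fin_cases i <;> simp [inc]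

lemma ker_eq (g ρ : P2) (hg : g ^ 2 + expand 2 ρ = 0)
    (hind : ∀ r0 r1 : P2, expand 2 r0 + expand 2 r1 * g = 0 → r0 = 0 ∧ r1 = 0) :
    RingHom.ker (aeval (R := R) (S₁ := P2) ![X 0 ^ 2, X 1 ^ 2, g]) =
      Ideal.span {X 2 ^ 2 + inc ρ} := by
  set Φ := aeval (R := R) (S₁ := P2) ![X 0 ^ 2, X 1 ^ 2, g]
  have hrel : Φ (X 2 ^ 2 + inc ρ) = 0 := by simp only [Φ, map_add, map_pow, aeval_inc, aeval_X]; simpa using hg
  have red : ∀ q : MvPolynomial (Fin 3) R, ∃ r0 r1,
      q - (inc r0 + inc r1 * X 2) ∈ Ideal.span {X 2 ^ 2 + inc ρ} := by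
    intro q
    induction q using MvPolynomial.induction_on with
    | C a => exact ⟨C a, 0, by simp [inc]⟩
    | add p q hp hq =>
      obtain ⟨a0, a1, ha⟩ := hp
      obtain ⟨b0, b1, hb⟩ := hq
      refine ⟨a0 + b0, a1 + b1, ?_⟩
      convert Ideal.add_mem _ ha hb using 1
      simp only [map_add]; ring
    | mul_X p i hp =>
      obtain ⟨a0, a1, ha⟩ := hp
      fin_cases i
      · refine ⟨a0 * X 0, a1 * X 0, ?_⟩
        convert Ideal.mul_mem_right (X 0) _ ha using 1
        simp [inc]; ring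
      · refine ⟨a0 * X 1, a1 * X 1, ?_⟩
        convert Ideal.mul_mem_right (X 1) _ ha using 1
        simp [inc]; ring
      · refine ⟨-(a1 * ρ), a0, ?_⟩
        convert Ideal.add_mem _ (Ideal.mul_mem_right (X 2) _ ha)
          (Ideal.mul_mem_left _ (inc a1) (Ideal.mem_span_singleton_self (X 2 ^ 2 + inc ρ))) using 1
        simp [inc]; ring
  refine le_antisymm (fun q hq => ?_) ((Ideal.span_singleton_le_iff_mem _).2 hrel)
  obtain ⟨r0, r1, hr⟩ := red q
  have h0 : Φ (q - (inc r0 + inc r1 * X 2)) = 0 := by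
    obtain ⟨c, hc⟩ := Ideal.mem_span_singleton'.1 hr
    rw [← hc, map_mul, hrel, mul_zero]
  have hq' : Φ q = 0 := hq
  rw [map_sub, hq', zero_sub, neg_eq_zero] at h0
  have h0' : expand 2 r0 + expand 2 r1 * g = 0 := by
    rw [← h0]; simp only [Φ, map_add, map_mul, aeval_inc, aeval_X]; simp
  obtain ⟨rfl, rfl⟩ := hind r0 r1 h0'
  simpa using hr

lemma mem_range_iff (g ρ : P2) (hg : g ^ 2 + expand 2 ρ = 0) (p : P2) :
    p ∈ (aeval (R := R) (S₁ := P2) ![X 0 ^ 2, X 1 ^ 2, g]).range ↔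
      ∃ r0 r1, p = expand 2 r0 + expand 2 r1 * g := by
  constructor
  · rintro ⟨q, rfl⟩
    induction q using MvPolynomial.induction_on with
    | C a => exact ⟨C a, 0, by simp⟩
    | add p q hp hq =>
      obtain ⟨a0, a1, ha⟩ := hp
      obtain ⟨b0, b1, hb⟩ := hq
      exact ⟨a0 + b0, a1 + b1, by simp only [map_add, AlgHom.toRingHom_eq_coe, RingHom.coe_coe] at ha hb ⊢; rw [ha, hb]; ring⟩
    | mul_X p i hp =>
      obtain ⟨a0, a1, ha⟩ := hp
      simp only [AlgHom.toRingHom_eq_coe, RingHom.coe_coe] at ha ⊢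
      fin_cases i
      · exact ⟨a0 * X 0, a1 * X 0, by simp only [map_mul, ha, aeval_X, expand_X]; simp; ring⟩
      · exact ⟨a0 * X 1, a1 * X 1, by simp only [map_mul, ha, aeval_X, expand_X]; simp; ring⟩
      · refine ⟨-(a1 * ρ), a0, ?_⟩
        simp only [map_mul, ha, aeval_X, map_neg]
        simp
        linear_combination expand 2 a1 * hg
  · rintro ⟨r0, r1, rfl⟩
    exact ⟨inc r0 + inc r1 * X 2, by simp only [AlgHom.toRingHom_eq_coe, RingHom.coe_coe, map_add, map_mul, aeval_inc, aeval_X]; simp⟩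

end Groth.Agent.H25Kum
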